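import Groth.Agent.Lib.QFSlice.FibreAt
import Groth.Agent.Lib.FibreFlat.OpenLocus
import Mathlib.RingTheory.NoetherNormalization
import Mathlib.RingTheory.ZariskisMainTheorem
import Mathlib.RingTheory.Spectrum.Prime.FreeLocus
import Mathlib.RingTheory.TensorProduct.MvPolynomial
import Mathlib.RingTheory.AdjoinRoot
import Mathlib.RingTheory.Localization.Integral
import Mathlib.RingTheory.Localization.LocalizationLocalization
import Mathlib.RingTheory.Localization.Away.AdjoinRoot
import Mathlib.RingTheory.Jacobson.Ring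
import Mathlib.RingTheory.Ideal.GoingUp
import Mathlib.RingTheory.Flat.Stability
import Mathlib.RingTheory.Finiteness.ModuleFinitePresentation
import Mathlib.RingTheory.Spectrum.Prime.Chevalley

/-!
# Quasi-finite flat slices of flat algebras of finite presentation (EGA IV 17.16.2)
-/

universe u

namespace GrothLib.QFSlice

open TensorProduct MvPolynomial

attribute [local instance] MvPolynomial.algebraMvPolynomial

/-- Finitely many elements of a field which are integral over `R` come from a finite free
`R`-algebra. -/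
theorem exists_finite_free_lift (R : Type u) [CommRing R] (L : Type u) [Field L] [Algebra R L]
    (d : ℕ) : ∀ w : Fin d → L, (∀ i, IsIntegral R (w i)) →
    ∃ (C₀ : Type u) (_ : CommRing C₀) (_ : Algebra R C₀) (ψ : C₀ →ₐ[R] L) (y : Fin d → C₀),
      Module.Finite R C₀ ∧ Module.Free R C₀ ∧ ∀ i, ψ (y i) = w i := by
  induction d with
  | zero =>
    exact fun w _ => ⟨R, inferInstance, inferInstance, Algebra.ofId R L, Fin.elim0,
      inferInstance, inferInstance, fun i => i.elim0⟩
  | succ d ih =>
    intro w hw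
    obtain ⟨C₁, _, _, ψ, y, hfin, hfree, hy⟩ :=
      ih (fun i => w i.castSucc) fun i => hw _
    obtain ⟨F, hF, hF0⟩ := hw (Fin.last d)
    let G := F.map (algebraMap R C₁)
    have hG : G.Monic := hF.map _
    have h0 : G.eval₂ ψ.toRingHom (w (Fin.last d)) = 0 := by
      rw [Polynomial.eval₂_map]
      rw [show ψ.toRingHom.comp (algebraMap R C₁) = algebraMap R L from
        RingHom.ext fun r => ψ.commutes r]
      exact hF0
    let ψ' : AdjoinRoot G →+* L := AdjoinRoot.lift ψ.toRingHom (w (Fin.last d)) h0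
    let ψA : AdjoinRoot G →ₐ[R] L :=
      { ψ' with
        commutes' := fun r => by
          show ψ' (algebraMap R (AdjoinRoot G) r) = _
          rw [IsScalarTower.algebraMap_apply R C₁ (AdjoinRoot G), AdjoinRoot.algebraMap_eq,
            AdjoinRoot.lift_of]
          exact ψ.commutes r }
    refine ⟨AdjoinRoot G, inferInstance, inferInstance, ψA,
      Fin.lastCases (AdjoinRoot.root G) (fun i => AdjoinRoot.of G (y i)), ?_, ?_, ?_⟩
    · haveI := hG.finite_adjoinRoot
      exact Module.Finite.trans C₁ _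
    · haveI := hG.free_adjoinRoot
      exact Module.Free.trans (S := C₁)
    · intro i
      refine Fin.lastCases ?_ (fun j => ?_) i
      · simp only [Fin.lastCases_last]
        exact AdjoinRoot.lift_root h0
      · simp only [Fin.lastCases_castSucc]
        exact (AdjoinRoot.lift_of h0).trans (hy j)

/-- Polynomials over a residue field have their denominators cleared. -/
theorem exists_clear {R : Type u} [CommRing R] (p : Ideal R) [p.IsPrime] {d : ℕ}
    (z : MvPolynomial (Fin d) p.ResidueField) :
    ∃ (s : R) (η : MvPolynomial (Fin d) R), s ∉ p ∧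
      MvPolynomial.map (algebraMap R p.ResidueField) η = C (algebraMap R p.ResidueField s) * z := by
  induction z using MvPolynomial.induction_on with
  | C a =>
    obtain ⟨⟨b, t⟩, h⟩ := IsLocalization.surj (nonZeroDivisors (R ⧸ p)) a
    obtain ⟨b, rfl⟩ := Ideal.Quotient.mk_surjective b
    obtain ⟨t', ht'⟩ := Ideal.Quotient.mk_surjective (t : R ⧸ p)
    refine ⟨t', C b, fun hmem => nonZeroDivisors.coe_ne_zero t
      (ht' ▸ Ideal.Quotient.eq_zero_iff_mem.2 hmem), ?_⟩
    rw [map_C, ← map_mul]
    congr 1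
    rw [mul_comm]
    simp only at h
    rw [← ht', Ideal.algebraMap_quotient_residueField_mk,
      Ideal.algebraMap_quotient_residueField_mk] at h
    exact h.symm
  | add a b ha hb =>
    obtain ⟨s, η, hs, hη⟩ := ha
    obtain ⟨t, θ, ht, hθ⟩ := hb
    refine ⟨s * t, C t * η + C s * θ,
      fun h => (Ideal.IsPrime.mem_or_mem inferInstance h).elim hs ht, ?_⟩
    simp only [map_add, map_mul, map_C, hη, hθ]
    ring
  | mul_X a i ha =>
    obtain ⟨s, η, hs, hη⟩ := ha
    exact ⟨s, η * X i, hs, by rw [map_mul, map_X, hη, mul_assoc]⟩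

set_option maxHeartbeats 1000000 in
/-- Through a prime with nonempty fibre passes a quasi-finite flat piece. -/
theorem exists_piece (R : Type u) [CommRing R] (S : Type u) [CommRing S] [Algebra R S]
    [Algebra.FinitePresentation R S] [Module.Flat R S] (p : Ideal R) [p.IsPrime]
    [Nontrivial (p.ResidueField ⊗[R] S)] :
    ∃ (D : Type u) (_ : CommRing D) (_ : Algebra R D),
      Algebra.FinitePresentation R D ∧ Module.Flat R D ∧ Algebra.QuasiFinite R D ∧
      Nonempty (S →ₐ[R] D) ∧ ∃ P : Ideal D, P.IsPrime ∧ P.comap (algebraMap R D) = p := by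
  classical
  obtain ⟨d, g₁, hg₁, hg₁fin⟩ :=
    exists_finite_inj_algHom_of_fg p.ResidueField (p.ResidueField ⊗[R] S)
  choose s hs x hx using fun i => Ideal.Fiber.exists_smul_eq_one_tmul p (g₁ (X i))
  have hc : ∀ i, algebraMap R p.ResidueField (s i) ≠ 0 := fun i h =>
    hs i (Ideal.algebraMap_residueField_eq_zero.1 h)
  let σ : MvPolynomial (Fin d) p.ResidueField ≃ₐ[p.ResidueField]
      MvPolynomial (Fin d) p.ResidueField :=
    AlgEquiv.ofAlgHom (aeval fun i => C (algebraMap R p.ResidueField (s i)) * X i)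
      (aeval fun i => C (algebraMap R p.ResidueField (s i))⁻¹ * X i)
      (MvPolynomial.algHom_ext fun i => by
        simp only [AlgHom.comp_apply, aeval_X, map_mul, AlgHom.id_apply]
        rw [← MvPolynomial.algebraMap_eq, AlgHom.commutes, MvPolynomial.algebraMap_eq, ← mul_assoc,
          ← map_mul, inv_mul_cancel₀ (hc i), map_one, one_mul])
      (MvPolynomial.algHom_ext fun i => by
        simp only [AlgHom.comp_apply, aeval_X, map_mul, AlgHom.id_apply]
        rw [← MvPolynomial.algebraMap_eq, AlgHom.commutes, MvPolynomial.algebraMap_eq, ← mul_assoc,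
          ← map_mul, mul_inv_cancel₀ (hc i), map_one, one_mul])
  let g : MvPolynomial (Fin d) p.ResidueField →ₐ[p.ResidueField] p.ResidueField ⊗[R] S :=
    g₁.comp σ.toAlgHom
  have hg : Function.Injective g := hg₁.comp σ.injective
  have hgfin : g.toRingHom.Finite :=
    hg₁fin.comp (RingHom.Finite.of_surjective σ.toRingEquiv.toRingHom σ.surjective)
  have hgX : ∀ i, g (X i) = 1 ⊗ₜ x i := fun i => by
    show g₁ (σ (X i)) = _
    rw [← hx i]
    show g₁ (aeval (fun i => C (algebraMap R p.ResidueField (s i)) * X i) (X i)) = _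
    rw [aeval_X, map_mul, ← MvPolynomial.algebraMap_eq, AlgHom.commutes, ← Algebra.smul_def,
      algebraMap_smul]
  -- the algebra structures
  let B := MvPolynomial (Fin d) R
  let K := p.ResidueField
  let Cp := MvPolynomial (Fin d) K
  letI : Algebra B S := (aeval x).toRingHom.toAlgebra
  haveI : IsScalarTower R B S :=
    IsScalarTower.of_algebraMap_eq fun r => ((aeval x).commutes r).symm
  haveI : Algebra.FinitePresentation B S :=
    Algebra.FinitePresentation.of_restrict_scalars_finitePresentation R B S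
  have halg : ∀ b : B, algebraMap B Cp b = MvPolynomial.map (algebraMap R K) b := fun b => rfl
  have hBS : ∀ b : B, g (MvPolynomial.map (algebraMap R K) b) = 1 ⊗ₜ aeval x b := fun b => by
    induction b using MvPolynomial.induction_on with
    | C r =>
      rw [map_C, ← MvPolynomial.algebraMap_eq, g.commutes, aeval_C,
        ← IsScalarTower.algebraMap_apply R K (K ⊗[R] S)]
      exact (Algebra.TensorProduct.includeRight (A := K) (R := R) (B := S)).commutes r |>.symm
    | add a b ha hb => rw [map_add, map_add, ha, hb, map_add, tmul_add]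
    | mul_X a i ha =>
      rw [map_mul, map_mul, ha, map_X, hgX, map_mul, aeval_X,
        Algebra.TensorProduct.tmul_mul_tmul, mul_one]
  let A' := Cp ⊗[B] S
  letI : Algebra B (K ⊗[R] S) := (g.toRingHom.comp (algebraMap B Cp)).toAlgebra
  let gB : Cp →ₐ[B] K ⊗[R] S := { g.toRingHom with commutes' := fun b => rfl }
  let iB : S →ₐ[B] K ⊗[R] S :=
    { (Algebra.TensorProduct.includeRight (A := K) (R := R) (B := S)).toRingHom with
      commutes' := fun b => (hBS b).symm }
  let ψ₂ : A' →ₐ[B] K ⊗[R] S :=
    Algebra.TensorProduct.lift gB iB fun _ _ => Commute.all _ _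
  have hinjA : Function.Injective (algebraMap Cp A') := by
    intro a b hab
    apply hg
    have e : ∀ c : Cp, ψ₂ (algebraMap Cp A' c) = g c := fun c => by
      show ψ₂ (c ⊗ₜ[B] (1 : S)) = g c
      refine (Algebra.TensorProduct.lift_tmul _ _ _ _ _).trans ?_
      rw [map_one, mul_one]
      rfl
    have h' := congrArg ψ₂ hab
    rwa [e, e] at h'
  haveI hfinA : Module.Finite Cp A' := by
    let iR : S →ₐ[R] A' :=
      { (Algebra.TensorProduct.includeRight (A := Cp) (R := B) (B := S)).toRingHom with
        commutes' := fun r => by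
          show (1 : Cp) ⊗ₜ[B] algebraMap R S r =
            (algebraMap K Cp (algebraMap R K r)) ⊗ₜ[B] (1 : S)
          rw [IsScalarTower.algebraMap_apply R B S, Algebra.algebraMap_eq_smul_one (A := S),
            tmul_smul, smul_tmul', Algebra.smul_def, mul_one, halg]
          congr 1
          exact map_C _ _ }
    let ψ₁ : K ⊗[R] S →ₐ[K] A' :=
      Algebra.TensorProduct.lift (Algebra.ofId K A') iR fun _ _ => Commute.all _ _
    have hcomp : ∀ z : Cp, ψ₁ (g z) = algebraMap Cp A' z := by
      intro z
      induction z using MvPolynomial.induction_on with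
      | C a =>
        rw [← MvPolynomial.algebraMap_eq, g.commutes, AlgHom.commutes]
        rfl
      | add a b ha hb => rw [map_add, map_add, ha, hb, map_add]
      | mul_X a i ha =>
        rw [map_mul, map_mul, ha, hgX, map_mul]
        congr 1
        refine (Algebra.TensorProduct.lift_tmul _ _ _ _ _).trans ?_
        rw [map_one, one_mul]
        show (1 : Cp) ⊗ₜ[B] x i = (X i : Cp) ⊗ₜ[B] (1 : S)
        rw [show x i = (X i : B) • (1 : S) from by
            rw [Algebra.smul_def, mul_one]; exact (aeval_X x i).symm,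
          tmul_smul, smul_tmul', Algebra.smul_def, mul_one, halg, map_X]
    have hsurj : Function.Surjective ψ₁ := by
      intro y
      induction y using TensorProduct.induction_on with
      | zero => exact ⟨0, map_zero _⟩
      | add a b ha hb =>
        obtain ⟨a, rfl⟩ := ha
        obtain ⟨b, rfl⟩ := hb
        exact ⟨a + b, map_add _ _ _⟩
      | tmul c t =>
        refine ⟨g c * (1 ⊗ₜ t), ?_⟩
        rw [map_mul, hcomp]
        show (c ⊗ₜ[B] (1 : S)) * ψ₁ (1 ⊗ₜ t) = _
        rw [show ψ₁ (1 ⊗ₜ t) = (1 : Cp) ⊗ₜ[B] t from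
          (Algebra.TensorProduct.lift_tmul _ _ _ _ _).trans (by rw [map_one, one_mul]; rfl),
          Algebra.TensorProduct.tmul_mul_tmul, mul_one, one_mul]
    letI : Algebra Cp (K ⊗[R] S) := g.toRingHom.toAlgebra
    haveI : Module.Finite Cp (K ⊗[R] S) := hgfin
    let l : (K ⊗[R] S) →ₗ[Cp] A' :=
      { toFun := ψ₁
        map_add' := map_add ψ₁
        map_smul' := fun c y => by
          rw [Algebra.smul_def, map_mul]
          exact (congrArg (· * ψ₁ y) (hcomp c)).trans (Algebra.smul_def c (ψ₁ y)).symm }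
    exact Module.Finite.of_surjective l hsurj
  -- generic freeness
  haveI : Module.FinitePresentation Cp A' := Module.finitePresentation_of_finite Cp A'
  haveI : (⊥ : Ideal Cp).IsPrime := Ideal.isPrime_bot
  have hbot : (⟨⊥, inferInstance⟩ : PrimeSpectrum Cp) ∈ Module.freeLocus Cp A' := by
    rw [Module.mem_freeLocus_iff_tensor _ (Localization.AtPrime (⊥ : Ideal Cp))]
    letI : Field (Localization.AtPrime (⊥ : Ideal Cp)) := by
      refine IsField.toField ((IsLocalRing.isField_iff_maximalIdeal_eq).2 ?_)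
      rw [← Localization.AtPrime.map_eq_maximalIdeal, Ideal.map_bot]
    exact Module.Free.of_divisionRing _ _
  obtain ⟨_, ⟨h, rfl⟩, hh, hsub⟩ :=
    PrimeSpectrum.isTopologicalBasis_basic_opens.exists_subset_of_mem_open hbot
      Module.isOpen_freeLocus
  have hh0 : h ≠ 0 := fun e => hh (by rw [e]; exact Ideal.zero_mem _)
  let Ch := Localization.Away h
  haveI : Module.Projective Ch (Ch ⊗[Cp] A') := by
    rw [← Module.freeLocus_eq_univ_iff, Set.eq_univ_iff_forall]
    intro y
    refine Module.comap_freeLocus_le (hsub ?_)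
    show _ ∈ (PrimeSpectrum.basicOpen h : Set (PrimeSpectrum Cp))
    rw [← PrimeSpectrum.localization_away_comap_range Ch h]
    exact Set.mem_range_self y
  -- the point
  obtain ⟨n, hn, hhn⟩ : ∃ n : Ideal Cp, n.IsMaximal ∧ h ∉ n := by
    by_contra hcon
    push Not at hcon
    refine hh0 ?_
    have hj : (⊥ : Ideal Cp).jacobson = ⊥ :=
      IsJacobsonRing.out inferInstance (Ideal.IsPrime.isRadical inferInstance)
    rw [← Ideal.mem_bot, ← hj, Ideal.jacobson, Ideal.mem_sInf]
    intro J hJ
    exact hcon J hJ.2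
  haveI : Algebra.IsIntegral Cp A' := Algebra.IsIntegral.of_finite Cp A'
  obtain ⟨Q, hQ, hQn⟩ := Ideal.exists_ideal_over_maximal_of_isIntegral (S := A') n
    (by rw [(RingHom.injective_iff_ker_eq_bot _).1 hinjA]; exact bot_le)
  letI : Field (A' ⧸ Q) := Ideal.Quotient.field Q
  let Λ := A' ⧸ Q
  let κS : S →+* Λ :=
    (Ideal.Quotient.mk Q).comp (Algebra.TensorProduct.includeRight (A := Cp) (R := B)).toRingHom
  let κC : Cp →+* Λ := (Ideal.Quotient.mk Q).comp (algebraMap Cp A')
  have hκ : ∀ b : B, κS (algebraMap B S b) = κC (MvPolynomial.map (algebraMap R K) b) := fun b => by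
    show Ideal.Quotient.mk Q ((1 : Cp) ⊗ₜ[B] algebraMap B S b) =
      Ideal.Quotient.mk Q ((MvPolynomial.map (algebraMap R K) b) ⊗ₜ[B] (1 : S))
    rw [Algebra.algebraMap_eq_smul_one, tmul_smul, smul_tmul', Algebra.smul_def, mul_one, halg]
  have hκn : RingHom.ker κC = n := by
    rw [← hQn]
    ext z
    exact Ideal.Quotient.eq_zero_iff_mem
  let q : Ideal S := RingHom.ker κS
  haveI : q.IsPrime := RingHom.ker_isPrime κS
  let r : Ideal B := q.comap (algebraMap B S)
  have hr : ∀ b, b ∈ r ↔ MvPolynomial.map (algebraMap R K) b ∈ n := fun b => by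
    rw [← hκn]
    show κS (algebraMap B S b) = 0 ↔ κC _ = 0
    rw [hκ]
  have hnK : ∀ a : K, (C a : Cp) ∈ n → a = 0 := fun a ha => by
    by_contra hne
    exact hn.ne_top (Ideal.eq_top_of_isUnit_mem _ ha ((isUnit_iff_ne_zero.2 hne).map C))
  have hrp : ∀ a : R, algebraMap R B a ∈ r ↔ a ∈ p := fun a => by
    rw [hr, MvPolynomial.algebraMap_eq, map_C]
    exact ⟨fun h' => Ideal.algebraMap_residueField_eq_zero.1 (hnK _ h'), fun h' => by
      rw [Ideal.algebraMap_residueField_eq_zero.2 h', map_zero]; exact Ideal.zero_mem _⟩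
  obtain ⟨s₀, η, hs₀, hη⟩ := exists_clear p h
  have hηr : η ∉ r := fun h' => by
    rw [hr, hη] at h'
    rcases hn.isPrime.mem_or_mem h' with h1 | h1
    · exact hs₀ (Ideal.algebraMap_residueField_eq_zero.1 (hnK _ h1))
    · exact hhn h1
  -- rings over `B` killing `p` and inverting the complement of `r`
  have mkC : ∀ (F : Type u) [CommRing F] [Algebra B F],
      (∀ a ∈ p, algebraMap B F (algebraMap R B a) = 0) → (∀ b ∉ r, IsUnit (algebraMap B F b)) →
      ∃ φ : Cp →+* F, (∀ b, φ (MvPolynomial.map (algebraMap R K) b) = algebraMap B F b) ∧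
        IsUnit (φ h) := by
    intro F _ _ h0 hu
    let φK : K →+* F := Ideal.ResidueField.lift p ((algebraMap B F).comp (algebraMap R B))
      (fun a ha => h0 a ha) (fun a ha => hu _ fun h' => ha ((hrp a).1 h'))
    refine ⟨eval₂Hom φK fun i => algebraMap B F (X i), ?_⟩
    have hcompat : ∀ b, eval₂Hom φK (fun i => algebraMap B F (X i))
        (MvPolynomial.map (algebraMap R K) b) = algebraMap B F b := fun b => by
      induction b using MvPolynomial.induction_on with
      | C a =>
        rw [map_C, eval₂Hom_C]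
        exact Ideal.ResidueField.lift_algebraMap _ _ _ _ a
      | add a b ha hb => rw [map_add, map_add, ha, hb, map_add]
      | mul_X a i ha => rw [map_mul, map_mul, ha, map_X, eval₂Hom_X', map_mul]
    refine ⟨hcompat, ?_⟩
    have h1 := hu η hηr
    rw [← hcompat, hη, map_mul] at h1
    exact isUnit_of_mul_isUnit_right h1
  have hq_p : ∀ a : R, a ∈ (q.comap (algebraMap B S)).comap (algebraMap R B) ↔ a ∈ p := hrp
  -- flatness at `q`
  have hflatq : Module.Flat B (LocalizedModule q.primeCompl S) := by
    haveI : Module.Flat B (Localization.AtPrime q ⊗[S] S) := by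
      refine flat_at_of_fibre (R := R) (S := B) (S' := S) (M := S) q fun F _ _ h0 hu => ?_
      obtain ⟨φ, hφ, hφh⟩ := mkC F (fun a ha => h0 a ((hq_p a).2 ha)) hu
      letI : Algebra Cp F := φ.toAlgebra
      haveI : IsScalarTower B Cp F :=
        IsScalarTower.of_algebraMap_eq fun b => (hφ b).symm
      letI : Algebra Ch F := (IsLocalization.Away.lift (S := Ch) h (g := φ) hφh).toAlgebra
      haveI : IsScalarTower Cp Ch F :=
        IsScalarTower.of_algebraMap_eq fun z => (IsLocalization.Away.lift_eq h hφh z).symm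
      haveI : Module.Flat F (F ⊗[Ch] (Ch ⊗[Cp] A')) := inferInstance
      exact Module.Flat.of_linearEquiv
        ((AlgebraTensorModule.cancelBaseChange Cp Ch F F A' ≪≫ₗ
          AlgebraTensorModule.cancelBaseChange B Cp F F S).symm)
    exact Module.Flat.of_linearEquiv
      ((LocalizedModule.equivTensorProduct q.primeCompl S).restrictScalars B)
  obtain ⟨_, ⟨u₀, rfl⟩, hqu, hu₀⟩ :=
    PrimeSpectrum.isTopologicalBasis_basic_opens.exists_subset_of_mem_open
      (show (⟨q, inferInstance⟩ : PrimeSpectrum S) ∈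
        {q' : PrimeSpectrum S | Module.Flat B (LocalizedModule q'.asIdeal.primeCompl S)} from hflatq)
      (GrothLib.FibreFlat.isOpen_flat_locus (R := B) (A := S) (M := S))
  -- quasi-finiteness at `q`
  haveI : Algebra.QuasiFiniteAt B q := by
    haveI : r.IsPrime := Ideal.IsPrime.comap _
    obtain ⟨φ, hφ, -⟩ := mkC r.ResidueField
      (fun a ha => Ideal.algebraMap_residueField_eq_zero.2 ((hrp a).2 ha))
      (fun b hb => isUnit_iff_ne_zero.2 fun h' => hb (Ideal.algebraMap_residueField_eq_zero.1 h'))
    letI : Algebra Cp r.ResidueField := φ.toAlgebra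
    haveI : IsScalarTower B Cp r.ResidueField :=
      IsScalarTower.of_algebraMap_eq fun b => (hφ b).symm
    haveI : Module.Finite r.ResidueField (r.ResidueField ⊗[B] S) :=
      Module.Finite.equiv (AlgebraTensorModule.cancelBaseChange B Cp r.ResidueField r.ResidueField S)
    haveI : Algebra.QuasiFinite r.ResidueField (r.Fiber S) := inferInstance
    let e := PrimeSpectrum.preimageHomeomorphFiber B S ⟨r, inferInstance⟩
    let Qf : PrimeSpectrum (r.Fiber S) := e ⟨⟨q, inferInstance⟩, rfl⟩
    haveI : q.LiesOver r := ⟨rfl⟩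
    exact Algebra.QuasiFiniteAt.of_quasiFiniteAt_residueField r q Qf.asIdeal
      congr($(e.symm_apply_apply ⟨⟨q, inferInstance⟩, rfl⟩).1.asIdeal)
  obtain ⟨S', hS', r₁, hr₁, hbij⟩ :=
    Algebra.QuasiFiniteAt.exists_fg_and_exists_notMem_and_awayMap_bijective (R := B) q
  haveI : Module.Finite B S' := ⟨(Submodule.fg_top _).mpr hS'⟩
  haveI : Algebra.QuasiFinite B (Localization.Away r₁) := .trans _ S' _
  haveI : Algebra.QuasiFinite B (Localization.Away r₁.1) := by
    let f₀ : Localization.Away r₁ →ₐ[B] Localization.Away r₁.1 :=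
      Localization.awayMapₐ S'.val r₁
    exact Algebra.QuasiFinite.of_surjective_algHom f₀ (fun y => hbij.2 y)
  let v : S := u₀ * r₁.1
  have hvq : v ∉ q := fun h' => (Ideal.IsPrime.mem_or_mem inferInstance h').elim hqu hr₁
  let Sv := Localization.Away v
  haveI : Algebra.QuasiFinite B Sv := by
    have hu : IsUnit (algebraMap S Sv r₁.1) := by
      have := IsLocalization.Away.algebraMap_isUnit (S := Sv) v
      rw [map_mul] at this
      exact isUnit_of_mul_isUnit_right this
    let f : Localization.Away r₁.1 →ₐ[S] Sv :=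
      IsLocalization.Away.liftAlgHom r₁.1 (f := Algebra.ofId S Sv) hu
    refine Algebra.QuasiFinite.of_forall_exists_mul_mem_range (f.restrictScalars B) fun y => ?_
    obtain ⟨a, ⟨_, k, rfl⟩, rfl⟩ := IsLocalization.exists_mk'_eq (Submonoid.powers v) y
    refine ⟨algebraMap S _ (v ^ k), ?_, algebraMap S _ a, ?_⟩
    · rw [AlgHom.restrictScalars_apply, AlgHom.commutes, map_pow]
      exact (IsLocalization.Away.algebraMap_isUnit (S := Sv) v).pow k
    · rw [AlgHom.restrictScalars_apply, AlgHom.commutes, IsLocalization.mk'_spec_mk]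
      exact f.commutes a
  haveI : Module.Flat B Sv := by
    refine Module.flat_of_isLocalized_maximal Sv Sv (fun Q' _ => Localization.AtPrime Q')
      (fun Q' _ => Algebra.linearMap Sv (Localization.AtPrime Q')) fun Q' hQ' => ?_
    let P' := Q'.comap (algebraMap S Sv)
    have hvP : v ∉ P' := fun h' => hQ'.ne_top
      (Ideal.eq_top_of_isUnit_mem _ h' (IsLocalization.Away.algebraMap_isUnit (S := Sv) v))
    haveI : Module.Flat B (LocalizedModule P'.primeCompl S) :=
      hu₀ (show (⟨P', inferInstance⟩ : PrimeSpectrum S) ∈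
        (PrimeSpectrum.basicOpen u₀ : Set (PrimeSpectrum S)) from
          fun h' => hvP (Ideal.mul_mem_right _ _ h'))
    haveI : IsLocalization.AtPrime (Localization.AtPrime Q') P' :=
      IsLocalization.isLocalization_isLocalization_atPrime_isLocalization (Submonoid.powers v)
        (Localization.AtPrime Q') Q'
    exact Module.Flat.of_linearEquiv ((IsLocalizedModule.linearEquiv P'.primeCompl
      (LocalizedModule.mkLinearMap P'.primeCompl S)
      (Algebra.linearMap S (Localization.AtPrime Q'))).restrictScalars B).symm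
  haveI : Algebra.FinitePresentation S Sv := IsLocalization.Away.finitePresentation v
  haveI : Algebra.FinitePresentation B Sv := Algebra.FinitePresentation.trans B S Sv
  -- the finite free algebra
  haveI : Algebra.FiniteType Cp Λ := by
    haveI : Module.Finite Cp Λ :=
      Module.Finite.of_surjective (Ideal.Quotient.mkₐ Cp Q).toLinearMap
        (Ideal.Quotient.mkₐ_surjective Cp Q)
    infer_instance
  haveI : Algebra.FiniteType K Λ := Algebra.FiniteType.trans (S := Cp) inferInstance inferInstance
  haveI : Module.Finite K Λ := finite_of_finite_type_of_isJacobsonRing K Λ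
  let z : Fin d → Λ := fun i => κC (X i)
  have hint : ∀ i, ∃ t : R, t ∉ p ∧ IsIntegral R (algebraMap R Λ t * z i) := by
    intro i
    obtain ⟨m', hm'⟩ := IsIntegral.exists_multiple_integral_of_isLocalization
      (nonZeroDivisors (R ⧸ p)) (Rₘ := K) (z i) (Algebra.IsIntegral.isIntegral _)
    obtain ⟨t, ht⟩ := Ideal.Quotient.mk_surjective (m' : R ⧸ p)
    refine ⟨t, fun h' => nonZeroDivisors.coe_ne_zero m'
      (ht ▸ Ideal.Quotient.eq_zero_iff_mem.2 h'), ?_⟩
    rw [Submonoid.smul_def, Algebra.smul_def, ← ht,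
      ← Ideal.Quotient.algebraMap_eq, ← IsScalarTower.algebraMap_apply] at hm'
    exact isIntegral_trans (A := R ⧸ p) _ hm'
  choose t htp htint using hint
  let s₁ : R := ∏ i, t i
  have hs₁ : s₁ ∉ p := fun h' => by
    obtain ⟨i, -, hi⟩ := (Ideal.IsPrime.prod_mem_iff).1 h'
    exact htp i hi
  have hwint : ∀ i, IsIntegral R (algebraMap R Λ s₁ * z i) := fun i => by
    rw [show s₁ = (∏ j ∈ Finset.univ.erase i, t j) * t i from
      (Finset.prod_erase_mul _ _ (Finset.mem_univ i)).symm, map_mul, mul_assoc]
    exact isIntegral_algebraMap.mul (htint i)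
  obtain ⟨C₀, _, _, ψ₀, y, _, _, hy⟩ := exists_finite_free_lift R Λ d _ hwint
  have hs₁Λ : IsUnit (algebraMap R Λ s₁) := by
    rw [IsScalarTower.algebraMap_apply R K Λ]
    exact (isUnit_iff_ne_zero.2 fun h' =>
      hs₁ (Ideal.algebraMap_residueField_eq_zero.1 h')).map _
  let C₁ := Localization.Away (algebraMap R C₀ s₁)
  have hu₁ : IsUnit (ψ₀ (algebraMap R C₀ s₁)) := by rw [ψ₀.commutes]; exact hs₁Λ
  let ψ₁ : C₁ →ₐ[R] Λ :=
    IsLocalization.Away.liftAlgHom (algebraMap R C₀ s₁) (f := ψ₀) hu₁
  haveI : Algebra.FinitePresentation R C₀ := by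
    haveI := Module.finitePresentation_of_projective R C₀
    infer_instance
  haveI : Algebra.FinitePresentation C₀ C₁ :=
    IsLocalization.Away.finitePresentation (algebraMap R C₀ s₁)
  haveI : Algebra.FinitePresentation R C₁ := Algebra.FinitePresentation.trans R C₀ C₁
  haveI : Module.Flat C₀ C₁ := IsLocalization.flat C₁ (Submonoid.powers (algebraMap R C₀ s₁))
  haveI : Module.Flat R C₁ := Module.Flat.trans R C₀ C₁
  let inv₁ : C₁ := IsLocalization.Away.invSelf (algebraMap R C₀ s₁)
  let Y : B →ₐ[R] C₁ := aeval fun i => algebraMap C₀ C₁ (y i) * inv₁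
  letI : Algebra B C₁ := Y.toRingHom.toAlgebra
  haveI : IsScalarTower R B C₁ := IsScalarTower.of_algebraMap_eq fun a => (Y.commutes a).symm
  have hY : ∀ b : B, ψ₁ (Y b) = κC (MvPolynomial.map (algebraMap R K) b) := by
    intro b
    induction b using MvPolynomial.induction_on with
    | C a =>
      rw [map_C]
      show ψ₁ (Y (algebraMap R B a)) = κC (algebraMap K Cp (algebraMap R K a))
      rw [Y.commutes, ψ₁.commutes]
      rfl
    | add a b ha hb => rw [map_add, map_add, ha, hb, map_add, map_add]
    | mul_X a i ha =>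
      rw [map_mul, map_mul, ha, map_mul, map_mul, map_X]
      congr 1
      have h1 : ψ₁ (algebraMap C₀ C₁ (y i)) = algebraMap R Λ s₁ * κC (X i) :=
        (IsLocalization.Away.lift_eq (algebraMap R C₀ s₁) hu₁ (y i)).trans (hy i)
      show ψ₁ (aeval (fun i => algebraMap C₀ C₁ (y i) * inv₁) (X i)) = _
      rw [aeval_X, map_mul, h1]
      have h2 : algebraMap R Λ s₁ * ψ₁ inv₁ = 1 := by
        rw [← ψ₁.commutes, ← map_mul, IsScalarTower.algebraMap_apply R C₀ C₁,
          IsLocalization.Away.mul_invSelf, map_one]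
      rw [mul_right_comm, h2, one_mul]
  haveI : Module.Flat R (C₁ ⊗[B] Sv) := Module.Flat.trans R C₁ _
  haveI : Algebra.FinitePresentation R (C₁ ⊗[B] Sv) := Algebra.FinitePresentation.trans R C₁ _
  haveI : Algebra.QuasiFinite R (C₁ ⊗[B] Sv) := .trans R C₁ _
  let f₁ : C₁ →ₐ[B] Λ := { ψ₁.toRingHom with commutes' := fun b => hY b }
  have huv : IsUnit (κS v) := isUnit_iff_ne_zero.2 hvq
  let f₂ : Sv →ₐ[B] Λ :=
    { IsLocalization.Away.lift (S := Sv) v huv with
      commutes' := fun b => by
        show IsLocalization.Away.lift (S := Sv) v huv (algebraMap B Sv b) = _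
        rw [IsScalarTower.algebraMap_apply B S Sv, IsLocalization.Away.lift_eq, hκ]
        rfl }
  let Φ : C₁ ⊗[B] Sv →ₐ[B] Λ := Algebra.TensorProduct.lift f₁ f₂ fun _ _ => Commute.all _ _
  refine ⟨C₁ ⊗[B] Sv, inferInstance, inferInstance, inferInstance, inferInstance, inferInstance,
    ⟨(Algebra.TensorProduct.includeRight (A := C₁) (R := B) (B := Sv)).restrictScalars R |>.comp
      (IsScalarTower.toAlgHom R S Sv)⟩,
    RingHom.ker Φ.toRingHom, RingHom.ker_isPrime _, ?_⟩
  ext a
  show Φ (algebraMap R (C₁ ⊗[B] Sv) a) = 0 ↔ a ∈ p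
  rw [Algebra.TensorProduct.algebraMap_apply,
    show Φ (algebraMap R C₁ a ⊗ₜ[B] (1 : Sv)) = f₁ (algebraMap R C₁ a) * f₂ 1 from
      Algebra.TensorProduct.lift_tmul _ _ _ _ _, map_one, mul_one]
  show ψ₁ (algebraMap R C₁ a) = 0 ↔ _
  rw [ψ₁.commutes, IsScalarTower.algebraMap_apply R K Λ, map_eq_zero,
    Ideal.algebraMap_residueField_eq_zero]

/-- A faithfully flat algebra of finite presentation has a quasi-finite one dominating it. -/
theorem exists_dominating (R : Type u) [CommRing R] (S : Type u) [CommRing S] [Algebra R S]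
    [Module.FaithfullyFlat R S] [Algebra.FinitePresentation R S] :
    ∃ (S' : Type u) (_ : CommRing S') (_ : Algebra R S'),
      Algebra.QuasiFinite R S' ∧ Algebra.FiniteType R S' ∧ Module.FaithfullyFlat R S' ∧
        Algebra.FinitePresentation R S' ∧ Nonempty (S →ₐ[R] S') := by
  classical
  have hpiece : ∀ p : PrimeSpectrum R, ∃ (D : Type u) (_ : CommRing D) (_ : Algebra R D),
      Algebra.FinitePresentation R D ∧ Module.Flat R D ∧ Algebra.QuasiFinite R D ∧
      Nonempty (S →ₐ[R] D) ∧ ∃ P : Ideal D, P.IsPrime ∧ P.comap (algebraMap R D) = p.asIdeal :=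
    fun p => by
      haveI : Nontrivial (p.asIdeal.ResidueField ⊗[R] S) :=
        Module.FaithfullyFlat.rTensor_nontrivial R S p.asIdeal.ResidueField
      exact exists_piece R S p.asIdeal
  choose D i₁ i₂ hfp hfl hqf hmap P hP hPp using hpiece
  let U : PrimeSpectrum R → Set (PrimeSpectrum R) := fun p =>
    Set.range (PrimeSpectrum.comap (algebraMap R (D p)))
  have hopen : ∀ p, IsOpen (U p) := fun p => by
    haveI := hfp p
    haveI := hfl p
    exact PrimeSpectrum.isOpenMap_comap_of_hasGoingDown_of_finitePresentation.isOpen_range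
  obtain ⟨F, hF⟩ := isCompact_univ.elim_finite_subcover U hopen
    fun p _ => Set.mem_iUnion.2 ⟨p, ⟨P p, hP p⟩, PrimeSpectrum.ext (hPp p)⟩
  let S' := ∀ i : F, D i
  haveI : ∀ i : F, Algebra.FinitePresentation R (D i) := fun i => hfp i
  haveI : ∀ i : F, Module.Flat R (D i) := fun i => hfl i
  haveI : ∀ i : F, Algebra.QuasiFinite R (D i) := fun i => hqf i
  haveI : Module.Flat R S' :=
    Module.Flat.of_linearEquiv (DirectSum.linearEquivFunOnFintype R F (fun i : F => D i)).symm
  have hqf' : Algebra.QuasiFinite R S' := ⟨fun p _ =>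
    Module.Finite.equiv (TensorProduct.piRight R p.ResidueField p.ResidueField
      (fun i : F => D i)).symm⟩
  have hsurj : Function.Surjective (PrimeSpectrum.comap (algebraMap R S')) := by
    intro p
    obtain ⟨i, hi, y, hy⟩ : ∃ i ∈ F, p ∈ U i := by simpa using hF (Set.mem_univ p)
    exact ⟨PrimeSpectrum.comap (Pi.evalRingHom (fun i : F => D i) ⟨i, hi⟩) y, hy⟩
  exact ⟨S', inferInstance, inferInstance, hqf', inferInstance,
    Module.FaithfullyFlat.of_comap_surjective hsurj, inferInstance,
    ⟨Pi.algHom R (fun i : F => D i) fun i => (hmap i).some⟩⟩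

end GrothLib.QFSlice
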