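import Groth.Agent.Lib.FibreFlat.Global

/-!
# The fibre criterion of flatness at one prime
-/

universe u

namespace GrothLib.QFSlice

open TensorProduct Function IsLocalRing GrothLib.FibreFlat

set_option maxHeartbeats 400000 in
/-- Flatness at `q` over `S` can be checked after any change of rings killing `p` and inverting
what lies outside `q`. -/
theorem flat_at_of_fibre {R S S' M : Type u} [CommRing R] [CommRing S] [CommRing S'] [Algebra R S]
    [Algebra S S'] [Algebra R S'] [IsScalarTower R S S'] [Algebra.FiniteType R S]
    [Algebra.FinitePresentation R S'] [AddCommGroup M] [Module S' M] [Module S M] [Module R M]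
    [IsScalarTower S S' M] [IsScalarTower R S M] [Module.FinitePresentation S' M] [Module.Flat R M]
    (q : Ideal S') [q.IsPrime]
    (h : ∀ (F : Type u) [CommRing F] [Algebra S F],
      (∀ x ∈ (q.comap (algebraMap S S')).comap (algebraMap R S),
        algebraMap S F (algebraMap R S x) = 0) →
      (∀ y ∉ q.comap (algebraMap S S'), IsUnit (algebraMap S F y)) →
      Module.Flat F (F ⊗[S] M)) :
    Module.Flat S (Localization.AtPrime q ⊗[S'] M) := by
  haveI : IsScalarTower R S' M := IsScalarTower.of_algebraMap_smul fun r x => by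
    rw [IsScalarTower.algebraMap_apply R S S', algebraMap_smul, algebraMap_smul]
  -- opaque local rings
  let r := q.comap (algebraMap S S')
  let p := r.comap (algebraMap R S)
  obtain ⟨Rp, _, _, _, _⟩ := exists_atPrime p
  obtain ⟨Sr, _, _, _, _⟩ := exists_atPrime r
  let Bq := Localization.AtPrime q
  obtain ⟨ψ₁, hψ₁, hl₁⟩ := exists_localHom (algebraMap R S) r Rp Sr
  obtain ⟨ψ₂, hψ₂, hl₂⟩ := exists_localHom (algebraMap S S') q Sr Bq
  letI : Algebra Rp Sr := ψ₁.toAlgebra
  letI : Algebra Sr Bq := ψ₂.toAlgebra
  letI : Algebra Rp Bq := (ψ₂.comp ψ₁).toAlgebra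
  haveI : IsScalarTower Rp Sr Bq := IsScalarTower.of_algebraMap_eq fun _ => rfl
  letI : Algebra R Sr := ((algebraMap S Sr).comp (algebraMap R S)).toAlgebra
  haveI : IsScalarTower R S Sr := IsScalarTower.of_algebraMap_eq fun _ => rfl
  haveI : IsScalarTower R Rp Sr := IsScalarTower.of_algebraMap_eq fun x => (hψ₁ x).symm
  haveI : IsScalarTower S Sr Bq := IsScalarTower.of_algebraMap_eq fun x => by
    rw [IsScalarTower.algebraMap_apply S S' Bq]
    exact (hψ₂ x).symm
  haveI : IsScalarTower R Rp Bq := IsScalarTower.of_algebraMap_eq fun x => by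
    show algebraMap R Bq x = ψ₂ (ψ₁ (algebraMap R Rp x))
    rw [hψ₁, hψ₂, IsScalarTower.algebraMap_apply R S' Bq, IsScalarTower.algebraMap_apply R S S']
  haveI : IsLocalHom (algebraMap Rp Bq) := by
    show IsLocalHom (ψ₂.comp ψ₁)
    infer_instance
  let Mq := Bq ⊗[S'] M
  let ι : M →ₗ[S'] Mq := TensorProduct.mk S' Bq M 1
  haveI : IsLocalizedModule q.primeCompl ι :=
    (isLocalizedModule_iff_isBaseChange q.primeCompl Bq ι).mpr (TensorProduct.isBaseChange S' M Bq)
  -- flatness over `R_p`
  haveI : Module.Flat R Mq := Module.Flat.iff_lTensor_preserves_injective_linearMap.mpr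
    fun N N' _ _ _ _ f hf => lTensor_injective_of_isLocalizedModule q.primeCompl ι f
      fun x hx => ⟨1, one_mem _, by
        rw [one_smul]
        exact Module.Flat.lTensor_preserves_injective_linearMap (M := M) f hf
          (hx.trans (map_zero _).symm)⟩
  haveI : Module.Flat Rp Mq := (Module.flat_iff_of_isLocalization Rp p.primeCompl Mq).mpr inferInstance
  haveI : Module.FinitePresentation Bq Mq := inferInstance
  obtain ⟨n, φ, hφ⟩ := exists_generators_localization (R := R) (R' := Rp) (A := S) (A' := Sr) r.primeCompl
  have hess : CAlgX.IsEssFinitePresentation Rp Bq :=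
    isEssFinitePresentation_localization (R := R) (A := S') p.primeCompl q.primeCompl
  haveI : Module.Flat Sr Mq := by
    refine flat_of_fibre_localized hess φ hφ (flat_smul_top_of_flat_tensor _
      (flat_quotient_of_lTensor_injective _ fun N N' _ _ _ _ f hN hN' hf => ?_))
    let m := (maximalIdeal Rp).map (algebraMap Rp Sr)
    letI : Module S N := Module.compHom N (algebraMap S Sr)
    letI : Module S N' := Module.compHom N' (algebraMap S Sr)
    haveI : IsScalarTower S Sr N := IsScalarTower.of_algebraMap_smul fun _ _ => rfl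
    haveI : IsScalarTower S Sr N' := IsScalarTower.of_algebraMap_smul fun _ _ => rfl
    letI := hN.module
    haveI : IsScalarTower Sr (Sr ⧸ m) N := hN.isScalarTower
    letI := hN'.module
    haveI : IsScalarTower Sr (Sr ⧸ m) N' := hN'.isScalarTower
    haveI : IsScalarTower S (Sr ⧸ m) N := IsScalarTower.of_algebraMap_smul fun a x => by
      rw [IsScalarTower.algebraMap_apply S Sr (Sr ⧸ m), algebraMap_smul, algebraMap_smul]
    haveI : IsScalarTower S (Sr ⧸ m) N' := IsScalarTower.of_algebraMap_smul fun a x => by
      rw [IsScalarTower.algebraMap_apply S Sr (Sr ⧸ m), algebraMap_smul, algebraMap_smul]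
    let fS : N →ₗ[S] N' := f.restrictScalars S
    let fQ : N →ₗ[Sr ⧸ m] N' := f.extendScalarsOfSurjective Ideal.Quotient.mk_surjective
    -- injectivity for `M`
    have hM : Injective (fS.lTensor M) := by
      haveI : Module.Flat (Sr ⧸ m) ((Sr ⧸ m) ⊗[S] M) := h (Sr ⧸ m)
        (fun x hx => by
          rw [IsScalarTower.algebraMap_apply S Sr (Sr ⧸ m),
            ← IsScalarTower.algebraMap_apply R S Sr, IsScalarTower.algebraMap_apply R Rp Sr]
          exact Ideal.Quotient.eq_zero_iff_mem.mpr (Ideal.mem_map_of_mem _
            ((IsLocalization.AtPrime.to_map_mem_maximal_iff Rp p x).mpr hx)))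
        (fun y hy => by
          rw [IsScalarTower.algebraMap_apply S Sr (Sr ⧸ m)]
          exact (IsLocalization.map_units Sr (⟨y, hy⟩ : r.primeCompl)).map _)
      let eN := (TensorProduct.comm (Sr ⧸ m) ((Sr ⧸ m) ⊗[S] M) N).trans
        (AlgebraTensorModule.cancelBaseChange S (Sr ⧸ m) (Sr ⧸ m) N M)
      let eN' := (TensorProduct.comm (Sr ⧸ m) ((Sr ⧸ m) ⊗[S] M) N').trans
        (AlgebraTensorModule.cancelBaseChange S (Sr ⧸ m) (Sr ⧸ m) N' M)
      have key : ∀ x, eN' (fQ.lTensor ((Sr ⧸ m) ⊗[S] M) x) =
          TensorProduct.comm S M N' (fS.lTensor M ((TensorProduct.comm S M N).symm (eN x))) := fun x => by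
        induction x using TensorProduct.induction_on with
        | zero => simp
        | add a b ha hb => simp only [map_add, ha, hb]
        | tmul a b =>
          induction a using TensorProduct.induction_on with
          | zero => simp
          | add a a' ha ha' => simp only [add_tmul, map_add, ha, ha']
          | tmul c y =>
            simp only [eN, eN', LinearMap.lTensor_tmul, LinearEquiv.trans_apply, TensorProduct.comm_tmul,
              AlgebraTensorModule.cancelBaseChange_tmul, TensorProduct.comm_symm_tmul]
            rw [← map_smul]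
            rfl
      intro x y hxy
      obtain ⟨x', hx'⟩ := eN.surjective (TensorProduct.comm S M N x)
      obtain ⟨y', hy'⟩ := eN.surjective (TensorProduct.comm S M N y)
      have : x' = y' := Module.Flat.lTensor_preserves_injective_linearMap
        (M := (Sr ⧸ m) ⊗[S] M) fQ hf (eN'.injective (by
          rw [key, key, hx', hy', LinearEquiv.symm_apply_apply, LinearEquiv.symm_apply_apply, hxy]))
      apply (TensorProduct.comm S M N).injective
      rw [← hx', ← hy', this]
    have hMq : Injective (fS.lTensor Mq) :=
      lTensor_injective_of_isLocalizedModule q.primeCompl ι fS fun x hx => ⟨1, one_mem _, by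
        rw [one_smul]
        exact hM (hx.trans (map_zero _).symm)⟩
    haveI : ∀ (K : Type u) [AddCommGroup K] [Module Sr K] [Module S K] [IsScalarTower S Sr K],
        CompatibleSMul S Sr Mq K := fun K _ _ _ _ =>
      IsLocalization.tensorProduct_compatibleSMul r.primeCompl Sr Mq K
    let eK := TensorProduct.equivOfCompatibleSMul S Sr S Mq N
    let eK' := TensorProduct.equivOfCompatibleSMul S Sr S Mq N'
    have hc : ∀ z, fS.lTensor Mq (eK z) = eK' (f.lTensor Mq z) := fun z => by
      induction z using TensorProduct.induction_on with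
      | zero => simp
      | add a b ha hb => simp only [map_add, ha, hb]
      | tmul a b => rfl
    intro x y hxy
    exact eK.injective (hMq (by rw [hc, hc, hxy]))
  haveI : Module.Flat S Sr := IsLocalization.flat Sr r.primeCompl
  exact Module.Flat.trans S Sr Mq

end GrothLib.QFSlice
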